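import Cfsg.Agent.H985.UT.HB
import Cfsg.Agent.H93.UG.AutCard

/-!
# S2196, part (B2): the candidates of Lie type in cross characteristic, degree at most 12

`not_cand`: `HB q n P` excludes the lists `LieC`, `MultC`, `ExcC` of `H936.List12`.
-/

set_option autoImplicit false
set_option linter.unusedSectionVars false

universe u v

namespace Cfsg.Agent.H93.UG

open Cfsg Cfsg.Geo Matrix Cfsg.Agent.H915.LD Cfsg.Agent.H985.UT Cfsg.Agent.H912.Bd

variable {F : Type u} [Field F] [Finite F] {q n : ℕ} {P : Subgroup (GL (Fin n) F)}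

theorem kill_small (h : HB q n P) {N : ℕ} (hN : Nat.card (MulAut (Soc P)) = N) (hle : N ≤ 30000000) : False := by
  refine h.kill (m := 6) (Q := 3) (N := 30000000) h.six h.three (by norm_num) (hN.trans_le hle) ?_
  norm_num

theorem kill_seven (h : HB q n P) (hn : 7 ≤ n) {N : ℕ} (hN : Nat.card (MulAut (Soc P)) = N)
    (hle : N ≤ 38000000000) : False := by
  refine h.kill (m := 7) (Q := 3) (N := 38000000000) hn h.three (by norm_num) (hN.trans_le hle) ?_
  norm_num

theorem p_dvd_q {p : ℕ} [CharP F p] [hp : Fact p.Prime] (h : HB q n P) : p ∣ q := by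
  have : Fintype F := Fintype.ofFinite F
  obtain ⟨k, -, hk⟩ := FiniteField.card F p
  have h1 := h.card
  rw [Nat.card_eq_fintype_card, hk] at h1
  exact hp.out.dvd_of_dvd_pow (h1 ▸ dvd_pow_self p k.pos.ne')

theorem kill_even {p : ℕ} [CharP F p] [hp : Fact p.Prime] (h : HB q n P) (hp2 : p ≠ 2) (h2 : 2 ∣ n) {N : ℕ}
    (hN : Nat.card (MulAut (Soc P)) = N) (h61 : ¬ 61 ∣ N) (hle : N ≤ 60000000000) : False := by
  have h6 := h.six
  have h3 := h.three
  rcases Nat.lt_or_ge n 8 with h8 | h8
  · have hn : n = 6 := by omega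
    rcases Nat.lt_or_ge q 5 with h5 | h5
    · have hq4 : q ≠ 4 := by
        intro h4
        have h1 := p_dvd_q (p := p) h
        rw [h4, show (4 : ℕ) = 2 ^ 2 by norm_num] at h1
        exact hp2 ((Nat.prime_dvd_prime_iff_eq hp.out Nat.prime_two).1 (hp.out.dvd_of_dvd_pow h1))
      exact h.kill61 hn (by omega) (by rwa [hN])
    · refine h.kill (m := 6) (Q := 5) (N := 60000000000) h6 h5 (by norm_num) (hN.trans_le hle) ?_
      norm_num
  · refine h.kill (m := 8) (Q := 3) (N := 60000000000) h8 h3 (by norm_num) (hN.trans_le hle) ?_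
    norm_num

theorem l2_le {T : Type v} [Group T] {r : ℕ} (hr : r ∈ ({7, 8, 11, 13, 17, 19, 23, 25} : Finset ℕ)) (h : IsL 2 r T) :
    Nat.card (MulAut T) ≤ 30000000 := by
  have hpf : ∃ p f, p.Prime ∧ 1 ≤ f ∧ f ≤ 3 ∧ r = p ^ f ∧ 4 ≤ r ∧ r ≤ 25 := by
    simp only [Finset.mem_insert, Finset.mem_singleton] at hr
    rcases hr with rfl | rfl | rfl | rfl | rfl | rfl | rfl | rfl
    · exact ⟨7, 1, by norm_num⟩
    · exact ⟨2, 3, by norm_num⟩
    · exact ⟨11, 1, by norm_num⟩
    · exact ⟨13, 1, by norm_num⟩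
    · exact ⟨17, 1, by norm_num⟩
    · exact ⟨19, 1, by norm_num⟩
    · exact ⟨23, 1, by norm_num⟩
    · exact ⟨5, 2, by norm_num⟩
  obtain ⟨p, f, hp, hf, hf3, hrp, h4, h25⟩ := hpf
  rw [aut_l hp hf hrp le_rfl (fun _ => h4) h]
  simp only [if_true, one_mul]
  norm_num
  calc f * (r * (r ^ 2 - 1)) ≤ 3 * (25 * 25 ^ 2) := by
        refine Nat.mul_le_mul hf3 (Nat.mul_le_mul h25 ?_)
        exact (Nat.sub_le _ _).trans (Nat.pow_le_pow_left h25 2)
    _ ≤ 30000000 := by norm_num

section vals

variable {T : Type v} [Group T]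

theorem v_l33 (h : IsL 3 3 T) : Nat.card (MulAut T) = 11232 := by
  rw [aut_l Nat.prime_three le_rfl (by norm_num) (by norm_num) (by norm_num) h]
  norm_num [Finset.prod_range_succ]

theorem v_l34 (h : IsL 3 4 T) : Nat.card (MulAut T) = 241920 := by
  rw [aut_l Nat.prime_two (f := 2) (by norm_num) (by norm_num) (by norm_num) (by norm_num) h]
  norm_num [Finset.prod_range_succ]

theorem v_u33 (h : IsU 3 3 T) : Nat.card (MulAut T) = 12096 := by
  rw [aut_u Nat.prime_three (f := 1) le_rfl (by norm_num) (by norm_num) (by norm_num) h]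
  norm_num [Finset.prod_range_succ]

theorem v_u34 (h : IsU 3 4 T) : Nat.card (MulAut T) = 249600 := by
  rw [aut_u Nat.prime_two (f := 2) (by norm_num) (by norm_num) (by norm_num) (by norm_num) h]
  norm_num [Finset.prod_range_succ]

theorem v_u42 (h : IsU 4 2 T) : Nat.card (MulAut T) = 51840 := by
  rw [aut_u Nat.prime_two (f := 1) le_rfl (by norm_num) (by norm_num) (by norm_num) h]
  simp only [Finset.prod_range_succ, Finset.prod_range_zero]
  norm_num [Nat.even_iff]

theorem v_u43 (h : IsU 4 3 T) : Nat.card (MulAut T) = 26127360 := by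
  rw [aut_u Nat.prime_three (f := 1) le_rfl (by norm_num) (by norm_num) (by norm_num) h]
  simp only [Finset.prod_range_succ, Finset.prod_range_zero]
  norm_num [Nat.even_iff]

theorem v_u52 (h : IsU 5 2 T) : Nat.card (MulAut T) = 27371520 := by
  rw [aut_u Nat.prime_two (f := 1) le_rfl (by norm_num) (by norm_num) (by norm_num) h]
  simp only [Finset.prod_range_succ, Finset.prod_range_zero]
  norm_num [Nat.even_iff]

theorem v_u62 (h : IsU 6 2 T) : Nat.card (MulAut T) = 55180984320 := by
  rw [aut_u Nat.prime_two (f := 1) le_rfl (by norm_num) (by norm_num) (by norm_num) h]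
  simp only [Finset.prod_range_succ, Finset.prod_range_zero]
  norm_num [Nat.even_iff]

theorem v_s25 (h : IsS 2 5 T) : Nat.card (MulAut T) = 9360000 := by
  rw [aut_s Nat.prime_five (f := 1) le_rfl (by norm_num) (by norm_num) (by norm_num) (by norm_num) h]
  norm_num [Finset.prod_range_succ]

theorem v_s32 (h : IsS 3 2 T) : Nat.card (MulAut T) = 1451520 := by
  rw [aut_s Nat.prime_two (f := 1) le_rfl (by norm_num) (by norm_num) (by norm_num) (by norm_num) h]
  norm_num [Finset.prod_range_succ]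

end vals

/-- **The candidates of Lie type (cross characteristic, `n ≤ 12`) do not occur.** -/
theorem not_cand {p : ℕ} [CharP F p] [Fact p.Prime] (h : HB q n P) (_hn : n ≤ 12) :
    ¬ (H936.List12.LieC p n (Soc P) ∨ H936.List12.MultC p n (Soc P) ∨ H936.List12.ExcC p n (Soc P)) := by
  rintro (hL | hM | hE)
  · rcases hL with ⟨r, hr, -, -, h1⟩ | ⟨-, -, h1⟩ | ⟨-, -, h1⟩ | ⟨-, -, h1⟩ | ⟨-, -, -, h1⟩ | ⟨-, -, h1⟩ | ⟨-, -, h1⟩ |
      ⟨-, -, h1⟩ | ⟨-, h7, h1⟩
    · exact kill_small h rfl (l2_le hr h1)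
    · exact kill_small h (v_l33 h1) (by norm_num)
    · exact kill_small h (v_u33 h1) (by norm_num)
    · exact kill_small h (v_u34 h1) (by norm_num)
    · exact kill_small h (v_u42 h1) (by norm_num)
    · exact kill_small h (v_u52 h1) (by norm_num)
    · exact kill_small h (v_s25 h1) (by norm_num)
    · exact kill_small h (v_s32 h1) (by norm_num)
    · exact kill_seven h h7 (aut_op42 h1) (by norm_num)
  · rcases hM with ⟨hp2, h2, h1 | h1 | ⟨-, h1⟩ | h1 | h1 | h1 | h1⟩ | ⟨-, -, h1⟩
    · exact kill_small h rfl (l2_le (by norm_num) h1)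
    · exact kill_small h (v_l34 h1) (by norm_num)
    · exact kill_small h (v_u42 h1) (by norm_num)
    · exact kill_even h hp2 h2 (v_u62 h1) (by norm_num) (by norm_num)
    · exact kill_small h (v_s32 h1) (by norm_num)
    · exact kill_even h hp2 h2 (aut_op42 h1) (by norm_num) (by norm_num)
    · exact kill_even h hp2 h2 (aut_g24 h1) (by norm_num) (by norm_num)
    · exact kill_small h (v_u43 h1) (by norm_num)
  · rcases hE with ⟨-, -, h1⟩ | ⟨-, -, h1⟩
    · exact kill_small h (aut_g23 h1) (by norm_num)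
    · exact kill_small h (aut_sz8 h1) (by norm_num)

end Cfsg.Agent.H93.UG
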